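import Mathlib.RingTheory.Etale.Kaehler
import Mathlib.RingTheory.Smooth.Basic
import Mathlib.RingTheory.Kaehler.Polynomial
import Mathlib.RingTheory.Localization.BaseChange
import Mathlib.LinearAlgebra.Prod
import Mathlib.Tactic.Abel

/-!
# Conormal modules of two formally smooth presentations
-/

set_option autoImplicit false
set_option backward.isDefEq.respectTransparency false
set_option linter.style.haveILetI false
set_option maxSynthPendingDepth 3

universe u

open TensorProduct Algebra

namespace Groth.Agent.CotPresLib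

/-- Homotopy equivalent two-term complexes. -/
theorem prod_equiv_of_homotopy (R : Type u) [CommRing R]
    (A₁ A₀ B₁ B₀ : Type u) [AddCommGroup A₁] [Module R A₁] [AddCommGroup A₀] [Module R A₀]
    [AddCommGroup B₁] [Module R B₁] [AddCommGroup B₀] [Module R B₀]
    (dA : A₁ →ₗ[R] A₀) (dB : B₁ →ₗ[R] B₀) (φ₁ : A₁ →ₗ[R] B₁) (φ₀ : A₀ →ₗ[R] B₀)
    (ψ₁ : B₁ →ₗ[R] A₁) (ψ₀ : B₀ →ₗ[R] A₀) (hφ : dB ∘ₗ φ₁ = φ₀ ∘ₗ dA) (hψ : dA ∘ₗ ψ₁ = ψ₀ ∘ₗ dB)
    (h : A₀ →ₗ[R] A₁) (hh₁ : LinearMap.id - ψ₁ ∘ₗ φ₁ = h ∘ₗ dA) (hh₀ : LinearMap.id - ψ₀ ∘ₗ φ₀ = dA ∘ₗ h)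
    (h' : B₀ →ₗ[R] B₁) (hh'₁ : LinearMap.id - φ₁ ∘ₗ ψ₁ = h' ∘ₗ dB)
    (hh'₀ : LinearMap.id - φ₀ ∘ₗ ψ₀ = dB ∘ₗ h') :
    Nonempty ((A₁ × B₀) ≃ₗ[R] (B₁ × A₀)) := by
  let u : (A₁ × B₀) →ₗ[R] (B₁ × A₀) := (φ₁.coprod h').prod (-dA |>.coprod ψ₀)
  let v : (B₁ × A₀) →ₗ[R] (A₁ × B₀) := (ψ₁.coprod (-h)).prod (dB.coprod φ₀)
  have e1 := fun x => DFunLike.congr_fun hh₁ x
  have e2 := fun x => DFunLike.congr_fun hh₀ x
  have e3 := fun x => DFunLike.congr_fun hh'₁ x
  have e4 := fun x => DFunLike.congr_fun hh'₀ x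
  have f1 := fun x => DFunLike.congr_fun hφ x
  have f2 := fun x => DFunLike.congr_fun hψ x
  simp only [LinearMap.sub_apply, LinearMap.id_apply, LinearMap.comp_apply, sub_eq_iff_eq_add] at e1 e2 e3 e4 f1 f2
  have vu : ∀ a b, v (u (a, b)) = (a + (ψ₁ (h' b) - h (ψ₀ b)), b) := fun a b => by
    refine Prod.ext ?_ ?_
    · show ψ₁ (φ₁ a + h' b) + -h (-dA a + ψ₀ b) = _
      conv_rhs => rw [e1 a]
      simp only [map_add, map_neg]; abel
    · show dB (φ₁ a + h' b) + φ₀ (-dA a + ψ₀ b) = b
      conv_rhs => rw [e4 b]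
      simp only [map_add, map_neg, f1]; abel
  have uv : ∀ b a, u (v (b, a)) = (b + (h' (φ₀ a) - φ₁ (h a)), a) := fun b a => by
    refine Prod.ext ?_ ?_
    · show φ₁ (ψ₁ b + -h a) + h' (dB b + φ₀ a) = _
      conv_rhs => rw [e3 b]
      simp only [map_add, map_neg]; abel
    · show -dA (ψ₁ b + -h a) + ψ₀ (dB b + φ₀ a) = a
      conv_rhs => rw [e2 a]
      simp only [map_add, map_neg, f2]; abel
  refine ⟨LinearEquiv.ofBijective u ⟨?_, ?_⟩⟩
  · rintro ⟨a, b⟩ ⟨a', b'⟩ he
    have := congr_arg v he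
    rw [vu, vu, Prod.mk.injEq] at this
    obtain ⟨h1, rfl⟩ := this
    rw [add_right_cancel h1]
  · rintro ⟨b, a⟩
    exact ⟨v (b - (h' (φ₀ a) - φ₁ (h a)), a), by rw [uv, sub_add_cancel]⟩

variable {R A : Type u} [CommRing R] [CommRing A] [Algebra R A]

/-- `I/I² ⊕ Ω_Q ≅ J/J² ⊕ Ω_P` for formally smooth presentations `P`, `Q`. -/
theorem nonempty_cotangent_prod_cotangentSpace (P Q : Extension.{u} R A)
    [FormallySmooth R P.Ring] [FormallySmooth R Q.Ring] :
    Nonempty ((P.Cotangent × Q.CotangentSpace) ≃ₗ[A] (Q.Cotangent × P.CotangentSpace)) := by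
  let f := Extension.homInfinitesimal P Q
  let g := Extension.homInfinitesimal Q P
  have hP₁ := Extension.Cotangent.map_sub_map (Extension.Hom.id P.infinitesimal) (g.comp f)
  have hQ₁ := Extension.Cotangent.map_sub_map (Extension.Hom.id Q.infinitesimal) (f.comp g)
  have hP₀ := Extension.CotangentSpace.map_sub_map (Extension.Hom.id P.infinitesimal) (g.comp f)
  have hQ₀ := Extension.CotangentSpace.map_sub_map (Extension.Hom.id Q.infinitesimal) (f.comp g)
  rw [Extension.Cotangent.map_id, Extension.Cotangent.map_comp] at hP₁ hQ₁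
  rw [Extension.CotangentSpace.map_id, Extension.CotangentSpace.map_comp] at hP₀ hQ₀
  obtain ⟨E⟩ := prod_equiv_of_homotopy A P.infinitesimal.Cotangent P.infinitesimal.CotangentSpace
    Q.infinitesimal.Cotangent Q.infinitesimal.CotangentSpace P.infinitesimal.cotangentComplex
    Q.infinitesimal.cotangentComplex (Extension.Cotangent.map f) (Extension.CotangentSpace.map f)
    (Extension.Cotangent.map g) (Extension.CotangentSpace.map g)
    (Extension.CotangentSpace.map_comp_cotangentComplex f).symm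
    (Extension.CotangentSpace.map_comp_cotangentComplex g).symm
    _ hP₁ hP₀ _ hQ₁ hQ₀
  let cP := LinearEquiv.ofBijective _ (Extension.Cotangent.map_toInfinitesimal_bijective P)
  let cQ := LinearEquiv.ofBijective _ (Extension.Cotangent.map_toInfinitesimal_bijective Q)
  let sP := LinearEquiv.ofBijective _ (Extension.CotangentSpace.map_toInfinitesimal_bijective P)
  let sQ := LinearEquiv.ofBijective _ (Extension.CotangentSpace.map_toInfinitesimal_bijective Q)
  exact ⟨(cP.prodCongr sQ).trans (E.trans (cQ.prodCongr sP).symm)⟩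

/-- The cotangent space of a presentation by a polynomial ring. -/
theorem nonempty_cotangentSpace_ofSurjective {n : ℕ} (α : MvPolynomial (Fin n) R →ₐ[R] A)
    (hα : Function.Surjective α) :
    Nonempty ((Extension.ofSurjective α hα).CotangentSpace ≃ₗ[A] (Fin n → A)) := by
  letI := α.toRingHom.toAlgebra
  exact ⟨((KaehlerDifferential.mvPolynomialBasis R (Fin n)).baseChange A).equivFun⟩

theorem formallySmooth_ofSurjective {n : ℕ} (α : MvPolynomial (Fin n) R →ₐ[R] A)
    (hα : Function.Surjective α) : FormallySmooth R (Extension.ofSurjective α hα).Ring :=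
  inferInstanceAs (FormallySmooth R (MvPolynomial (Fin n) R))

/-- A localised presentation of a localisation. -/
theorem exists_localization (P : Extension.{u} R A) [FormallySmooth R P.Ring] (M : Submonoid A)
    (T : Type u) [CommRing T] [Algebra R T] [Algebra A T] [IsScalarTower R A T] [IsLocalization M T] :
    ∃ Q : Extension.{u} R T, FormallySmooth R Q.Ring ∧
      Nonempty (T ⊗[A] P.Cotangent ≃ₗ[T] Q.Cotangent) ∧
      Nonempty (T ⊗[A] P.CotangentSpace ≃ₗ[T] Q.CotangentSpace) := by
  letI M' := M.comap (algebraMap P.Ring A)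
  letI fQ : Localization M' →ₐ[R] T := IsLocalization.liftAlgHom (M := M')
    (f := (IsScalarTower.toAlgHom R A T).comp (IsScalarTower.toAlgHom R P.Ring A)) (fun ⟨y, hy⟩ ↦
    by simpa using IsLocalization.map_units T ⟨algebraMap P.Ring A y, hy⟩)
  letI Q : Extension R T := .ofSurjective fQ (by
    intro x
    obtain ⟨x, ⟨s, hs⟩, rfl⟩ := IsLocalization.exists_mk'_eq M x
    obtain ⟨x, rfl⟩ := P.algebraMap_surjective x
    obtain ⟨s, rfl⟩ := P.algebraMap_surjective s
    refine ⟨IsLocalization.mk' _ x ⟨s, show s ∈ M' from hs⟩, ?_⟩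
    simp only [fQ, IsLocalization.coe_liftAlgHom, AlgHom.toRingHom_eq_coe]
    rw [IsLocalization.lift_mk'_spec]
    simp)
  letI f : P.Hom Q :=
  { toRingHom := algebraMap P.Ring (Localization M')
    toRingHom_algebraMap x := (IsScalarTower.algebraMap_apply R P.Ring (Localization M') _).symm
    algebraMap_toRingHom x := @IsLocalization.lift_eq .. }
  haveI : FormallySmooth P.Ring (Localization M') := .of_isLocalization M'
  haveI hQ : FormallySmooth R Q.Ring := .comp R P.Ring (Localization M')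
  letI : Algebra P.Ring Q.Ring := (inferInstance : Algebra P.Ring (Localization M'))
  letI := ((algebraMap A T).comp (algebraMap P.Ring A)).toAlgebra
  letI := fQ.toRingHom.toAlgebra
  haveI : IsScalarTower P.Ring A T := .of_algebraMap_eq' rfl
  haveI : IsScalarTower P.Ring (Localization M') T :=
    .of_algebraMap_eq fun r ↦ (f.algebraMap_toRingHom r).symm
  haveI : IsLocalizedModule M' (IsScalarTower.toAlgHom P.Ring A T).toLinearMap := by
    rw [isLocalizedModule_iff_isLocalization]
    convert! ‹IsLocalization M T› using 1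
    exact Submonoid.map_comap_eq_of_surjective P.algebraMap_surjective _
  refine ⟨Q, hQ, ⟨Extension.tensorCotangent f rfl ?_⟩, ⟨Extension.tensorCotangentSpaceOfFormallyEtale f ?_⟩⟩
  · let F : P.ker →ₗ[P.Ring] RingHom.ker fQ := f.mapKer rfl
    refine (isLocalizedModule_iff_isBaseChange M' (Localization M') F).mp ?_
    have : (LinearMap.ker <| Algebra.linearMap P.Ring A).localized' (Localization M') M'
        (Algebra.linearMap P.Ring (Localization M')) = RingHom.ker fQ := by
      rw [LinearMap.localized'_ker_eq_ker_localizedMap (Localization M') M'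
        (Algebra.linearMap P.Ring (Localization M'))
        (f' := (IsScalarTower.toAlgHom P.Ring A T).toLinearMap)]
      ext x
      obtain ⟨x, ⟨s, hs⟩, rfl⟩ := IsLocalization.exists_mk'_eq M' x
      simp only [LinearMap.mem_ker, LinearMap.extendScalarsOfIsLocalization_apply', RingHom.mem_ker,
        IsLocalization.coe_liftAlgHom, AlgHom.toRingHom_eq_coe, IsLocalization.lift_mk'_spec,
        RingHom.coe_coe, AlgHom.coe_comp, IsScalarTower.coe_toAlgHom', Function.comp_apply,
        mul_zero, fQ]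
      have : IsLocalization.mk' (Localization M') x ⟨s, hs⟩ =
          IsLocalizedModule.mk' (Algebra.linearMap P.Ring (Localization M')) x ⟨s, hs⟩ := by
        rw [IsLocalization.mk'_eq_iff_eq_mul, mul_comm, ← Algebra.smul_def, ← Submonoid.smul_def,
          IsLocalizedModule.mk'_cancel']
        rfl
      simp [this, ← IsScalarTower.algebraMap_apply]
    have : F = ((LinearEquiv.ofEq _ _ this).restrictScalars P.Ring).toLinearMap ∘ₗ
      P.ker.toLocalized' (Localization M') M' (Algebra.linearMap P.Ring (Localization M')) := by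
      ext; rfl
    rw [this]
    exact IsLocalizedModule.of_linearEquiv _ _ _
  · exact RingHom.formallyEtale_algebraMap.mpr
      (FormallyEtale.of_isLocalization (M := M') (Rₘ := Localization M'))

end Groth.Agent.CotPresLib
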